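import Mathlib
import Groth.Prelude.Def_NonAbH1

/-!
# The Godement sheaf of a sheaf of groups has only trivial torsors
-/

set_option autoImplicit false

universe u

open CategoryTheory Limits Opposite

namespace Groth.Agent.NonAbGodementLib

noncomputable section

variable {C : Type (u + 1)} [Category.{u} C] {J : GrothendieckTopology C}

section Germ

variable (Φ : GrothendieckTopology.Point.{u} J) (F : Cᵒᵖ ⥤ GrpCat.{u + 1})

/-- The small indexing category of the germs. -/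
abbrev Idx := AsSmall.{u + 1} Φ.fiber.Elementsᵒᵖ

instance : IsFiltered (Idx Φ) := IsFiltered.of_equivalence AsSmall.equiv

/-- The diagram of the germs. -/
def diag : Idx Φ ⥤ GrpCat.{u + 1} :=
  AsSmall.down ⋙ (CategoryOfElements.π Φ.fiber).op ⋙ F

/-- The group of germs. -/
def K : GrpCat.{u + 1} := (GrpCat.FilteredColimits.colimitCocone.{u + 1, u + 1} (diag Φ F)).pt

/-- The germ map. -/
def germ (X : C) (x : Φ.fiber.obj X) : F.obj (op X) ⟶ K Φ F :=
  (GrpCat.FilteredColimits.colimitCocone.{u + 1, u + 1} (diag Φ F)).ι.app (AsSmall.up.obj (op (Φ.fiber.elementsMk X x)))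

theorem germ_w {X Y : C} (f : X ⟶ Y) (x : Φ.fiber.obj X) (s : F.obj (op Y)) :
    germ Φ F X x (F.map f.op s) = germ Φ F Y (Φ.fiber.map f x) s :=
  ConcreteCategory.congr_hom ((GrpCat.FilteredColimits.colimitCocone.{u + 1, u + 1} (diag Φ F)).w
    (AsSmall.up.map (CategoryOfElements.homMk (Φ.fiber.elementsMk X x) (Φ.fiber.elementsMk Y (Φ.fiber.map f x)) f rfl).op)) s

theorem germ_eq {X : C} (x : Φ.fiber.obj X) (s t : F.obj (op X)) (h : germ Φ F X x s = germ Φ F X x t) :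
    ∃ (Y : C) (f : Y ⟶ X) (y : Φ.fiber.obj Y), Φ.fiber.map f y = x ∧ F.map f.op s = F.map f.op t := by
  have hc := isColimitOfPreserves (forget GrpCat.{u + 1})
    (GrpCat.FilteredColimits.colimitCoconeIsColimit.{u + 1, u + 1} (diag Φ F))
  obtain ⟨k, a, hk⟩ :=
    (hc.eq_iff' (i := AsSmall.up.obj (op (Φ.fiber.elementsMk X x))) s t).1 h
  exact ⟨(AsSmall.down.obj k).unop.1, (AsSmall.down.map a).unop.1, (AsSmall.down.obj k).unop.2,
    (AsSmall.down.map a).unop.2, hk⟩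

end Germ

section Refine

variable (Φ : GrothendieckTopology.Point.{u} J)

theorem refine₂ {X V V' : C} (f : V ⟶ X) (f' : V' ⟶ X) (y : Φ.fiber.obj V) (y' : Φ.fiber.obj V')
    (h : Φ.fiber.map f y = Φ.fiber.map f' y') :
    ∃ (W : C) (a : W ⟶ V) (b : W ⟶ V') (w : Φ.fiber.obj W),
      a ≫ f = b ≫ f' ∧ Φ.fiber.map a w = y ∧ Φ.fiber.map b w = y' := by
  let α₁ : Φ.fiber.elementsMk _ y ⟶ Φ.fiber.elementsMk _ (Φ.fiber.map f y) := ⟨f, rfl⟩
  let α₂ : Φ.fiber.elementsMk _ y' ⟶ Φ.fiber.elementsMk _ (Φ.fiber.map f y) := ⟨f', h.symm⟩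
  obtain ⟨z, q₁, q₂, fac⟩ := IsCofiltered.cospan α₁ α₂
  rw [Subtype.ext_iff] at fac
  exact ⟨z.1, q₁.1, q₂.1, z.2, fac, q₁.2, q₂.2⟩

theorem refineEq {W V : C} (a b : W ⟶ V) (w : Φ.fiber.obj W) (h : Φ.fiber.map a w = Φ.fiber.map b w) :
    ∃ (W' : C) (c : W' ⟶ W) (w' : Φ.fiber.obj W'), c ≫ a = c ≫ b ∧ Φ.fiber.map c w' = w := by
  let α₁ : Φ.fiber.elementsMk _ w ⟶ Φ.fiber.elementsMk _ (Φ.fiber.map a w) := ⟨a, rfl⟩
  let α₂ : Φ.fiber.elementsMk _ w ⟶ Φ.fiber.elementsMk _ (Φ.fiber.map a w) := ⟨b, h.symm⟩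
  exact ⟨(IsCofiltered.eq α₁ α₂).1, (IsCofiltered.eqHom α₁ α₂).1, (IsCofiltered.eq α₁ α₂).2,
    congrArg Subtype.val (IsCofiltered.eq_condition α₁ α₂), (IsCofiltered.eqHom α₁ α₂).2⟩

end Refine

variable {ι : Type u} (Φ : ι → GrothendieckTopology.Point.{u} J) (F : Sheaf J GrpCat.{u + 1})

/-- The points over an object. -/
abbrev Pts (X : C) := Σ i, (Φ i).fiber.obj X

/-- Functoriality of the points. -/
def ptsMap {X Y : C} (f : X ⟶ Y) (p : Pts Φ X) : Pts Φ Y := ⟨p.1, (Φ p.1).fiber.map f p.2⟩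

/-- The Godement presheaf. -/
def godPsh : Cᵒᵖ ⥤ GrpCat.{u + 1} where
  obj X := GrpCat.of (∀ p : Pts Φ X.unop, K (Φ p.1) F.obj)
  map {X Y} f := GrpCat.ofHom
    { toFun := fun h p => h (ptsMap Φ f.unop p)
      map_one' := rfl
      map_mul' := fun _ _ => rfl }
  map_id X := by
    ext h : 3
    rename_i p
    obtain ⟨i, z⟩ := p
    show h ⟨i, (Φ i).fiber.map (𝟙 _) z⟩ = h ⟨i, z⟩
    rw [(Φ i).fiber.map_id]
    rfl
  map_comp {X Y Z} f g := by
    ext h : 3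
    rename_i p
    obtain ⟨i, z⟩ := p
    show h ⟨i, (Φ i).fiber.map (g.unop ≫ f.unop) z⟩ = h ⟨i, (Φ i).fiber.map f.unop ((Φ i).fiber.map g.unop z)⟩
    rw [(Φ i).fiber.map_comp]
    rfl

theorem isSheaf_godPsh : Presheaf.IsSheaf J (godPsh Φ F) := by
  rw [Presheaf.isSheaf_iff_isSheaf_forget J _ (forget GrpCat.{u + 1}), isSheaf_iff_isSheaf_of_type]
  intro X R hR x hx
  have hj : ∀ p : Pts Φ X, ∃ (Y : C) (f : Y ⟶ X) (_ : R f) (y : (Φ p.1).fiber.obj Y), (Φ p.1).fiber.map f y = p.2 :=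
    fun p => (Φ p.1).jointly_surjective R hR p.2
  choose Y f hf y hy using hj
  refine ⟨fun p => x (f p) (hf p) ⟨p.1, y p⟩, fun V g hg => ?_, fun t ht => ?_⟩
  · funext q
    obtain ⟨i, z⟩ := q
    set p : Pts Φ X := ⟨i, (Φ i).fiber.map g z⟩ with hp
    obtain ⟨W, a, b, w, hab, ha, hb⟩ := refine₂ (Φ i) (f p) g (y p) z (hy p)
    have := congrFun (hx a b (hf p) hg hab) ⟨i, w⟩
    show x (f p) (hf p) ⟨i, y p⟩ = x g hg ⟨i, z⟩
    rw [← ha, ← hb]
    exact this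
  · funext p
    obtain ⟨i, z⟩ := p
    have := congrFun (ht (f ⟨i, z⟩) (hf ⟨i, z⟩)) ⟨i, y ⟨i, z⟩⟩
    refine Eq.trans ?_ this
    show t ⟨i, z⟩ = t ⟨i, (Φ i).fiber.map (f ⟨i, z⟩) (y ⟨i, z⟩)⟩
    rw [hy ⟨i, z⟩]

/-- The Godement sheaf. -/
def god : Sheaf J GrpCat.{u + 1} := ⟨godPsh Φ F, isSheaf_godPsh Φ F⟩

/-- The map to the Godement sheaf. -/
def toGod : F ⟶ god Φ F := ⟨{
  app := fun X => GrpCat.ofHom
    { toFun := fun s p => germ (Φ p.1) F.obj X.unop p.2 s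
      map_one' := by funext p; exact map_one _
      map_mul' := fun s t => by funext p; exact map_mul _ _ _ }
  naturality := fun X Y f => by
    ext s : 2
    funext p
    exact germ_w (Φ p.1) F.obj f.unop p.2 s }⟩

theorem toGod_injective
    (hcons : ∀ (X : C) (S : Sieve X),
      (∀ i (x : (Φ i).fiber.obj X), ∃ (Y : C) (g : Y ⟶ X) (_ : S g) (y : (Φ i).fiber.obj Y),
        (Φ i).fiber.map g y = x) → S ∈ J X)
    (X : Cᵒᵖ) : Function.Injective ((toGod Φ F).hom.app X) := by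
  intro s t h
  have hS : Presheaf.equalizerSieve (F := F.obj) s t ∈ J X.unop := hcons _ _ fun i x => by
    obtain ⟨Y, g, y, hy, he⟩ := germ_eq (Φ i) F.obj x s t (congrFun h ⟨i, x⟩)
    exact ⟨Y, g, he, y, hy⟩
  have hF := (isSheaf_iff_isSheaf_of_type _ _).1 ((Presheaf.isSheaf_iff_isSheaf_forget J _ (forget GrpCat.{u + 1})).1 F.property)
  exact (hF _ hS).isSeparatedFor.ext fun _ g hg => hg

/-- A section over a terminal object trivialises a torsor. -/
theorem isTrivial_of_terminal_section {D : Type (u + 1)} [Category.{u} D] {L : GrothendieckTopology D}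
    {G : Sheaf L GrpCat.{u + 1}} [L.HasSheafCompose (forget GrpCat.{u + 1})] (P : NonAbH1.GSheaf G)
    (hP : P.IsPseudoTorsor) {T : D} (hT : IsTerminal T) (s : P.P.obj.obj (op T)) : P.IsTrivial := by
  let sec (V : Dᵒᵖ) : P.P.obj.obj V := P.P.obj.map (hT.from V.unop).op s
  have hsec : ∀ {V W : Dᵒᵖ} (f : V ⟶ W), P.P.obj.map f (sec V) = sec W := fun {V W} f => by
    simp only [sec, ← comp_apply, ← Functor.map_comp]
    congr 3
    exact Quiver.Hom.unop_inj (hT.hom_ext _ _)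
  let e (V : Dᵒᵖ) : (NonAbH1.GSheaf.uSh G).obj.obj V ≃ P.P.obj.obj V :=
    Equiv.ofBijective (fun g => P.smul (NonAbH1.GSheaf.toGrp g) (sec V))
      ⟨fun g g' h => (hP V (sec V) _).unique rfl h.symm, fun q => (hP V (sec V) q).exists⟩
  have hnat : ∀ {V W : Dᵒᵖ} (f : V ⟶ W) (g : (NonAbH1.GSheaf.uSh G).obj.obj V),
      P.P.obj.map f (e V g) = e W ((NonAbH1.GSheaf.uSh G).obj.map f g) := fun {V W} f g => by
    show P.P.obj.map f (P.smul _ _) = P.smul _ _
    rw [P.map_smul, hsec]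
    rfl
  let i : NonAbH1.GSheaf.uSh G ≅ P.P :=
    ObjectProperty.isoMk _ (NatIso.ofComponents (fun V => (e V).toIso)
      (fun {V W} f => by ext g; exact (hnat f g).symm))
  have hsmul : ∀ {V : Dᵒᵖ} (g : G.obj.obj V) (p : (NonAbH1.GSheaf.uSh G).obj.obj V),
      e V (NonAbH1.GSheaf.ofGrp (g * NonAbH1.GSheaf.toGrp p)) = P.smul g (e V p) := fun g p => P.mul_smul _ _ _
  exact ⟨{
    hom := ⟨i.hom, fun g p => hsmul g p⟩
    inv := ⟨i.inv, fun {V} g q => (e V).injective (by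
      show e V ((e V).symm (P.smul g q)) = e V (NonAbH1.GSheaf.ofGrp (g * NonAbH1.GSheaf.toGrp ((e V).symm q)))
      rw [hsmul, Equiv.apply_symm_apply, Equiv.apply_symm_apply])⟩
    hom_inv_id := NonAbH1.GSheaf.hom_ext i.hom_inv_id
    inv_hom_id := NonAbH1.GSheaf.hom_ext i.inv_hom_id }⟩

theorem torsor_isTrivial [∀ U : C, (J.over U).HasSheafCompose (forget GrpCat.{u + 1})] (U : C)
    (P : NonAbH1.Torsor ((god Φ F).over U)) : P.IsTrivial := by
  classical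
  let T₀ : Over U := Over.mk (𝟙 U)
  obtain ⟨R, hR, hne⟩ := P.isTorsor.2 T₀
  have hps := P.isTorsor.1
  let p (V : Over U) (h : R (Over.homMk V.hom : V ⟶ T₀)) : P.P.obj.obj (op V) := (hne _ h).some
  -- a chosen member of the cover through each point of `U`
  have hj : ∀ z : Pts Φ U, ∃ (V : Over U) (_ : R (Over.homMk V.hom : V ⟶ T₀)) (y : (Φ z.1).fiber.obj V.left),
      (Φ z.1).fiber.map V.hom y = z.2 := fun z => by
    obtain ⟨Y, f, hf, y, hy⟩ := (Φ z.1).jointly_surjective _ ((J.mem_over_iff R).1 hR) z.2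
    have hR' := (Sieve.overEquiv_iff R f).1 hf
    refine ⟨Over.mk (f ≫ T₀.hom), ?_, y, ?_⟩
    · convert hR' using 1
      exact Over.mkIdTerminal.hom_ext _ _
    · show (Φ z.1).fiber.map (f ≫ 𝟙 U) y = z.2
      erw [Category.comp_id]
      exact hy
  choose Vz hVz yz hyz using hj
  -- the correction on each member of the cover
  have hh : ∀ (V : Over U) (h : R (Over.homMk V.hom : V ⟶ T₀)) (q : Pts Φ V.left),
      ∃ k : K (Φ q.1) F.obj, ∀ (W : Over U) (a : W ⟶ V) (b : W ⟶ Vz (ptsMap Φ V.hom q))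
        (w : (Φ q.1).fiber.obj W.left) (g : ((god Φ F).over U).obj.obj (op W)),
        (Φ q.1).fiber.map a.left w = q.2 → (Φ q.1).fiber.map b.left w = yz (ptsMap Φ V.hom q) →
        P.smul g (P.P.obj.map a.op (p V h)) = P.P.obj.map b.op (p _ (hVz _)) → g ⟨q.1, w⟩ = k := by
    intro V h q
    obtain ⟨i, z⟩ := q
    set j := ptsMap Φ V.hom ⟨i, z⟩ with hjdef
    obtain ⟨W₀, a₀, b₀, w₀, hab, ha, hb⟩ := refine₂ (Φ i) V.hom (Vz j).hom z (yz j) (hyz j).symm
    let W : Over U := Over.mk (a₀ ≫ V.hom)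
    let a : W ⟶ V := Over.homMk a₀ rfl
    let b : W ⟶ Vz j := Over.homMk b₀ hab.symm
    obtain ⟨g, hg, -⟩ := hps (op W) (P.P.obj.map a.op (p V h)) (P.P.obj.map b.op (p _ (hVz j)))
    refine ⟨g ⟨i, w₀⟩, fun W' a' b' w' g' ha' hb' hg' => ?_⟩
    obtain ⟨X₁, c, c', x₁, hcc, hc, hc'⟩ := refine₂ (Φ i) a.left a'.left w₀ w' (ha.trans ha'.symm)
    obtain ⟨X₂, d, x₂, hd, hdx⟩ := refineEq (Φ i) (c ≫ b.left) (c' ≫ b'.left) x₁ (by
      rw [Functor.map_comp, Functor.map_comp, comp_apply, comp_apply, hc, hc']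
      exact hb.trans hb'.symm)
    let W₂ : Over U := Over.mk ((d ≫ c) ≫ W.hom)
    let e : W₂ ⟶ W := Over.homMk (d ≫ c) rfl
    let e' : W₂ ⟶ W' := Over.homMk (d ≫ c') (by
      show (d ≫ c') ≫ W'.hom = (d ≫ c) ≫ W.hom
      rw [← Over.w a', ← Over.w a]
      simp only [Category.assoc]
      rw [reassoc_of% hcc])
    have ea : e ≫ a = e' ≫ a' := by
      ext; simp [e, e', hcc]
    have eb : e ≫ b = e' ≫ b' := by
      ext; simpa [e, e'] using hd
    have h1 := congrArg (P.P.obj.map e.op) hg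
    have h2 := congrArg (P.P.obj.map e'.op) hg'
    rw [P.map_smul, ← comp_apply, ← Functor.map_comp, ← op_comp, ← comp_apply, ← Functor.map_comp, ← op_comp]
      at h1 h2
    rw [ea, eb] at h1
    have hu := (hps (op W₂) _ _).unique h1 h2
    have := congrFun hu ⟨i, x₂⟩
    change g ⟨i, (Φ i).fiber.map (d ≫ c) x₂⟩ = g' ⟨i, (Φ i).fiber.map (d ≫ c') x₂⟩ at this
    rw [Functor.map_comp, Functor.map_comp, comp_apply, comp_apply, hdx, hc, hc'] at this
    exact this.symm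
  choose k hk using hh
  let s (V : Over U) (h : R (Over.homMk V.hom : V ⟶ T₀)) : P.P.obj.obj (op V) :=
    P.smul (fun q => k V h q : ((god Φ F).over U).obj.obj (op V)) (p V h)
  have hcompat : ∀ (T V V' : Over U) (a : T ⟶ V) (a' : T ⟶ V') (h : R (Over.homMk V.hom : V ⟶ T₀))
      (h' : R (Over.homMk V'.hom : V' ⟶ T₀)),
      P.P.obj.map a.op (s V h) = P.P.obj.map a'.op (s V' h') := by
    intro T V V' a a' h h'
    obtain ⟨g, hg, -⟩ := hps (op T) (P.P.obj.map a.op (p V h)) (P.P.obj.map a'.op (p V' h'))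
    simp only [s, P.map_smul]
    rw [← hg, ← P.mul_smul]
    congr 1
    funext t
    obtain ⟨i, t⟩ := t
    show k V h ⟨i, (Φ i).fiber.map a.left t⟩ = k V' h' ⟨i, (Φ i).fiber.map a'.left t⟩ * g ⟨i, t⟩
    set j := ptsMap Φ V.hom ⟨i, (Φ i).fiber.map a.left t⟩ with hjdef
    have hj' : ptsMap Φ V'.hom ⟨i, (Φ i).fiber.map a'.left t⟩ = j := by
      simp only [hjdef, ptsMap, ← comp_apply, ← Functor.map_comp, Over.w]
    have htz : (Φ i).fiber.map T.hom t = (Φ i).fiber.map (Vz j).hom (yz j) := by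
      refine Eq.trans ?_ (hyz j).symm
      show _ = (Φ i).fiber.map V.hom ((Φ i).fiber.map a.left t)
      rw [← Over.w a, Functor.map_comp]
      rfl
    obtain ⟨W₀, c₀, b₀, w, hcb, hc, hb⟩ := refine₂ (Φ i) T.hom (Vz j).hom t (yz j) htz
    let W : Over U := Over.mk (c₀ ≫ T.hom)
    let c : W ⟶ T := Over.homMk c₀ rfl
    let b : W ⟶ Vz j := Over.homMk b₀ hcb.symm
    obtain ⟨g₁, hg₁, -⟩ := hps (op W) (P.P.obj.map (c ≫ a).op (p V h)) (P.P.obj.map b.op (p _ (hVz j)))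
    obtain ⟨g₂, hg₂, -⟩ := hps (op W) (P.P.obj.map (c ≫ a').op (p V' h')) (P.P.obj.map b.op (p _ (hVz j)))
    have e1 : g₁ ⟨i, w⟩ = k V h ⟨i, (Φ i).fiber.map a.left t⟩ :=
      hk V h ⟨i, (Φ i).fiber.map a.left t⟩ W (c ≫ a) b w g₁
        (show (Φ i).fiber.map (c₀ ≫ a.left) w = _ by rw [Functor.map_comp, comp_apply, hc]) hb hg₁
    have e2 : g₂ ⟨i, w⟩ = k V' h' ⟨i, (Φ i).fiber.map a'.left t⟩ := by
      have key : ∀ (j' : Pts Φ U) (e : j' = j), ∃ b' : W ⟶ Vz j',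
          P.smul g₂ (P.P.obj.map (c ≫ a').op (p V' h')) = P.P.obj.map b'.op (p _ (hVz j')) ∧
          ∀ (he : j'.1 = i), HEq ((Φ i).fiber.map b'.left w) (yz j') := by
        rintro _ rfl
        exact ⟨b, hg₂, fun _ => heq_of_eq hb⟩
      obtain ⟨b', hb'₁, hb'₂⟩ := key _ hj'
      exact hk V' h' ⟨i, (Φ i).fiber.map a'.left t⟩ W (c ≫ a') b' w g₂
        (show (Φ i).fiber.map (c₀ ≫ a'.left) w = _ by rw [Functor.map_comp, comp_apply, hc])
        (eq_of_heq (hb'₂ rfl)) hb'₁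
    have hgr := congrArg (P.P.obj.map c.op) hg
    rw [P.map_smul, ← comp_apply, ← Functor.map_comp, ← op_comp, ← comp_apply, ← Functor.map_comp, ← op_comp] at hgr
    have hu : g₁ = g₂ * ((god Φ F).over U).obj.map c.op g :=
      (hps (op W) _ _).unique hg₁ (by rw [P.mul_smul, hgr, hg₂])
    have := congrFun hu ⟨i, w⟩
    change g₁ ⟨i, w⟩ = g₂ ⟨i, w⟩ * g ⟨i, (Φ i).fiber.map c₀ w⟩ at this
    rw [e1, e2, hc] at this
    exact this
  have hmem : ∀ {V : Over U} (f : V ⟶ T₀), R f → R (Over.homMk V.hom : V ⟶ T₀) := fun {V} f hf => by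
    have : f = Over.homMk V.hom := Over.mkIdTerminal.hom_ext _ _
    rwa [← this]
  let fam : Presieve.FamilyOfElements P.P.obj R.arrows := fun V f hf => s V (hmem f hf)
  have hfam : fam.Compatible := fun V V' T a a' f f' hf hf' _ => hcompat T V V' a a' _ _
  obtain ⟨s₀, -, -⟩ := ((isSheaf_iff_isSheaf_of_type _ _).1 P.P.property) R hR fam hfam
  exact isTrivial_of_terminal_section P.toGSheaf hps Over.mkIdTerminal s₀

end

end Groth.Agent.NonAbGodementLib
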